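import Groth.Agent.PCohPunctual.Infinite
import Groth.Agent.DerivedAdj.Devissage
import Mathlib.Algebra.Category.ModuleCat.ChangeOfRings

/-!
# Pseudo-coherence is reflected by exact functors reflecting finite type
-/

set_option autoImplicit false
set_option linter.unusedSectionVars false

universe w w' v v' u u'

open CategoryTheory CategoryTheory.Limits CochainComplex HomologicalComplex
open CategoryTheory.Pretriangulated DerivedCategory

namespace Groth.PCohReflect

open PCohPunctual

variable {C : Type u} [Category.{v} C] [Abelian C] [HasDerivedCategory.{w} C]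
  {D : Type u'} [Category.{v'} D] [Abelian D] [HasDerivedCategory.{w'} D]
  {P : ObjectProperty C} {Q : ObjectProperty D}

/-- The cone of an `n`-isomorphism has no cohomology in degrees `≥ n`. -/
theorem isZero_homology_cone_of_dnqis {T : Triangle (DerivedCategory C)}
    (hT : T ∈ distinguishedTriangles) {n : ℤ} (h : DNQis T.mor₁ n) (i : ℤ) (hi : n ≤ i) :
    IsZero ((DerivedCategory.homologyFunctor C i).obj T.obj₃) := by
  have hepi : Epi ((DerivedCategory.homologyFunctor C i).map T.mor₁) := by
    rcases hi.eq_or_lt with rfl | hlt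
    · exact h.2
    · haveI := h.1 i hlt; infer_instance
  have hmono : Mono ((DerivedCategory.homologyFunctor C (i + 1)).map T.mor₁) := by
    haveI := h.1 (i + 1) (by omega); infer_instance
  exact (DerivedCategory.HomologySequence.exact₃ T hT i (i + 1) rfl).isZero_of_both_zeros
    ((DerivedCategory.HomologySequence.epi_homologyMap_mor₁_iff T hT i).1 hepi)
    ((DerivedCategory.HomologySequence.mono_homologyMap_mor₁_iff T hT i (i + 1) rfl).1 hmono)

variable (G : C ⥤ D) [G.Additive] [PreservesFiniteLimits G] [PreservesFiniteColimits G]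

/-- Pseudo-coherence is reflected by an exact functor which maps `P` into `Q` and reflects finite type
and zero objects. -/
theorem isPC_of_map (hA : IsAdditiveSub P) (hqs : PCoh.IsQuasiStableUnderKernels P)
    (hql : PCoh.IsQuasiLiftable P) (hA' : IsAdditiveSub Q) (hqs' : PCoh.IsQuasiStableUnderKernels Q)
    (hql' : PCoh.IsQuasiLiftable Q) (hP : ∀ X, P X → Q (G.obj X))
    (hft : ∀ X, PCoh.IsOfFiniteType Q (G.obj X) → PCoh.IsOfFiniteType P X)
    (hz : ∀ X, IsZero (G.obj X) → IsZero X) {K : DerivedCategory C}
    (hK : PCoh.IsPC Q (G.mapDerivedCategory.obj K)) : PCoh.IsPC P K := by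
  intro n
  suffices main : ∀ (k : ℕ) (K : DerivedCategory C), PCoh.IsPC Q (G.mapDerivedCategory.obj K) →
      (∀ i : ℤ, n + k ≤ i → IsZero ((DerivedCategory.homologyFunctor C i).obj K)) → PCn P n K by
    obtain ⟨b, hb⟩ := PCn.bddAbove (hK n)
    refine main (b + 1 - n).toNat K hK fun i hi => hz _ ?_
    exact (hb i (by omega)).of_iso (DerivedAdj.homologyMapDerivedIso G K i).symm
  intro k
  induction k with
  | zero => exact fun K _ hv => pcn_of_isZero hA hql fun i hi => hv i (by omega)
  | succ k ih =>
    intro K hK hv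
    have hG : PCoh.IsOfFiniteType Q (G.obj ((DerivedCategory.homologyFunctor C (n + k)).obj K)) :=
      ft_of_iso (DerivedAdj.homologyMapDerivedIso G K (n + k))
        (ft_of_pcn hqs' (fun i hi => (G.map_isZero (hv i (by omega))).of_iso
          (DerivedAdj.homologyMapDerivedIso G K i)) (hK (n + k)))
    have hm : PCn P (n + k) K := pcn_of_ft hA hql (fun i hi => hv i (by omega)) (hft _ hG)
    obtain ⟨E, α, hE, hEP, hα⟩ := exists_strictPerfect_dnqis hA hqs hql hm (n + k + 1) (by omega)
      fun i hi => hv i (by omega)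
    obtain ⟨Y, β, γ, hT⟩ := Pretriangulated.distinguished_cocone_triangle α
    have hE' : PCn P n (DerivedCategory.Q.obj E) :=
      ⟨E, ⟨⟨n + k + 1, fun i hi => hE i (Or.inr hi.le)⟩, fun i _ => hEP i⟩, ⟨Iso.refl _⟩⟩
    have hGE : PCoh.IsPC Q (G.mapDerivedCategory.obj (DerivedCategory.Q.obj E)) := fun m =>
      ⟨(G.mapHomologicalComplex _).obj E,
        ⟨⟨n + k + 1, fun i hi => G.map_isZero (hE i (Or.inr hi.le))⟩, fun i _ => hP _ (hEP i)⟩,
        ⟨(G.mapDerivedCategoryFactors.app E).symm⟩⟩
    have hY : PCn P n Y := ih Y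
      (fun m => PCn.cone hA' hqs' hql' (G.mapDerivedCategory.map_distinguished _ hT) (hGE (m + 1)) (hK m))
      (fun i hi => isZero_homology_cone_of_dnqis hT hα i hi)
    exact PCn.ext hA hqs hql hT hE' hY

end Groth.PCohReflect
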